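import Cfsg.Agent.H38.K547.Tool
import Cfsg.Agent.H473.K547.Alt
import Cfsg.Agent.H492.K4ThFin
import Cfsg.Agent.MonsterX.ThOneClass
import Cfsg.Agent.KFacts.Th.Main

/-!
# S4547: the row of `Th` (helper869)

The centralizer `2^(1+8).A₉` of an involution has odd index; all automorphisms are inner.
-/

set_option autoImplicit false

namespace Cfsg.Agent.H869.K547.Th

open Cfsg Cfsg.Agent.H821.K547 Cfsg.Agent.H38.K547

universe u

theorem d3_th : D3 Spor.Th := by
  have := Cfsg.Agent.KFacts.Th.Main.finite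
  obtain ⟨Q, hn, -, -, -, ⟨e⟩⟩ := Cfsg.Agent.MonsterX.ThOneClass.struct
  refine d3_of_map (Subgroup.centralizer ({Cfsg.Agent.Th.IndexUpper.gTh 1} : Set Spor.Th)) ?_
    (e.toMonoidHom.comp (QuotientGroup.mk' Q)) (e.surjective.comp (QuotientGroup.mk'_surjective Q))
    (Cfsg.Agent.H473.K547.d3_alt (by norm_num))
  have h1 := (Subgroup.centralizer ({Cfsg.Agent.Th.IndexUpper.gTh 1} : Set Spor.Th)).card_mul_index
  rw [Cfsg.Agent.MonsterX.ThOneClass.card_a, Cfsg.Agent.KFacts.Th.Main.ctx.card] at h1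
  have h2 : (Subgroup.centralizer ({Cfsg.Agent.Th.IndexUpper.gTh 1} : Set Spor.Th)).index = 976841775 := by omega
  rw [h2]
  norm_num

end Cfsg.Agent.H869.K547.Th

namespace Cfsg.Agent.H869.K547

open Cfsg Cfsg.Agent.H821.K547 Cfsg.Agent.H38.K547

universe u

/-- **The row of `Th`.** -/
theorem row_th {S : Type u} [Group S] (h : Spor.IsoTh S) : Row S := by
  obtain ⟨e⟩ := h
  have := Cfsg.Agent.KFacts.Th.Main.finite
  have hfin : Finite S := Finite.of_equiv _ e.symm.toEquiv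
  refine ⟨Or.inl ⟨Cfsg.Agent.H492.K4ThFin.good5_th ⟨e⟩, d3_congr e Th.d3_th⟩, fun τ _ hτ => hτ.elim ?_⟩
  obtain ⟨k, hk⟩ := Cfsg.Agent.KFacts.Th.Main.inner ((e.symm.trans τ).trans e)
  refine ⟨e.symm k, fun x => ?_⟩
  have h1 := DFunLike.congr_fun hk (e x)
  have h2 : e (τ x) = k * e x * k⁻¹ := by
    rw [MulAut.conj_apply] at h1
    rw [← h1]
    show e (τ x) = e (τ (e.symm (e x)))
    rw [e.symm_apply_apply]
  apply e.injective
  rw [h2, map_mul, map_mul, map_inv, e.apply_symm_apply]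

end Cfsg.Agent.H869.K547
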